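import Groth.Prelude.Def_W4c5t1liftcy3defoArt
import Mathlib.RingTheory.TensorProduct.Basic
import Mathlib.RingTheory.Flat.Basic
import Mathlib.Algebra.CharP.Algebra

/-!
# The T1-lifting criterion for set-valued functors of Artin rings

The square-zero extension `B_(m) → B_(m)/(y t^m)` receives `A_(m+1) → A_(m)` injectively on kernels
in characteristic zero, and `B_(m)/(y t^m)` is the fibre product `A_m ×_(A_(m-1)) B_(m-1)`.
-/

set_option maxHeartbeats 400000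
set_option autoImplicit false

universe u v

open CategoryTheory Polynomial
open scoped TensorProduct

noncomputable section

namespace Groth.Agent.T1Lift29

open T1Lift

variable (k : Type u) [Field k]

theorem αAlg_mk (n : ℕ) (p : k[X]) : αAlg k n (AdjoinRoot.mk _ p) = AdjoinRoot.mk _ p := by
  induction p using Polynomial.induction_on' with
  | add p q hp hq => rw [map_add, map_add, map_add, hp, hq]
  | monomial i c =>
    rw [← C_mul_X_pow_eq_monomial, map_mul, map_mul, map_mul, map_pow, map_pow, map_pow,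
      AdjoinRoot.mk_X, AdjoinRoot.mk_X, αAlg_t, AdjoinRoot.mk_C, AdjoinRoot.mk_C,
      ← AdjoinRoot.algebraMap_eq, ← AdjoinRoot.algebraMap_eq, AlgHom.commutes]

theorem αAlg_surjective (n : ℕ) : Function.Surjective (αAlg k n) := fun a => by
  induction a using AdjoinRoot.induction_on with
  | ih p => exact ⟨AdjoinRoot.mk _ p, αAlg_mk k n p⟩

theorem αAlg_eq_zero {n : ℕ} {a : Tr k (n + 1)} (h : αAlg k n a = 0) :
    ∃ c : k, a = c • t k (n + 1) ^ (n + 1) := by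
  induction a using AdjoinRoot.induction_on with
  | ih p =>
    rw [αAlg_mk, AdjoinRoot.mk_eq_zero] at h
    obtain ⟨q, rfl⟩ := h
    refine ⟨q.coeff 0, ?_⟩
    conv_lhs => rw [← X_mul_divX_add q]
    rw [mul_add, ← mul_assoc, ← pow_succ, map_add, map_mul, map_mul, map_pow, map_pow,
      AdjoinRoot.mk_X, t_pow, zero_mul, zero_add, AdjoinRoot.mk_C, Algebra.smul_def,
      AdjoinRoot.algebraMap_eq, mul_comm]

theorem t_pow_top_ne_zero (n : ℕ) : t k n ^ n ≠ 0 := fun h0 => by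
  have h : AdjoinRoot.mk ((X : k[X]) ^ (n + 1)) (X ^ n) = 0 := by rw [map_pow, AdjoinRoot.mk_X]; exact h0
  rw [AdjoinRoot.mk_eq_zero] at h
  have h2 := Polynomial.natDegree_le_of_dvd h (pow_ne_zero _ X_ne_zero)
  rw [natDegree_X_pow, natDegree_X_pow] at h2
  omega

theorem t_mul_of_res_eq_zero {n : ℕ} {a : Tr k n} (h : resA k n a = 0) :
    t k n ^ n * a = 0 := by
  obtain ⟨b, hb⟩ := eq_algebraMap_add_t_mul k n a
  rw [hb, h, map_zero, zero_add, ← mul_assoc, ← pow_succ, t_pow, zero_mul]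

theorem dual_mul_eq_zero {n : ℕ} {a x : DualNumber (Tr k n)} (ha : resA k n a.fst = 0) (hx : x.fst = 0)
    {c : k} (hc : x.snd = c • t k n ^ n) : a * x = 0 := by
  refine TrivSqZeroExt.ext ?_ ?_
  · rw [TrivSqZeroExt.fst_mul, hx, mul_zero, TrivSqZeroExt.fst_zero]
  · rw [TrivSqZeroExt.snd_mul, hx, MulOpposite.op_zero, zero_smul, add_zero, smul_eq_mul, hc,
      mul_smul_comm, mul_comm, t_mul_of_res_eq_zero k ha, smul_zero, TrivSqZeroExt.snd_zero]

theorem mul_eq_zero_top {n : ℕ} {a x : Tr k n} (ha : resA k n a = 0)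
    {c : k} (hc : x = c • t k n ^ n) : a * x = 0 := by
  rw [hc, mul_smul_comm, mul_comm, t_mul_of_res_eq_zero k ha, smul_zero]

theorem fst_inl_add_inr' {n : ℕ} (a s : Tr k n) :
    (TrivSqZeroExt.inl a + TrivSqZeroExt.inr s : DualNumber (Tr k n)).fst = a := by simp

theorem snd_inl_add_inr' {n : ℕ} (a s : Tr k n) :
    (TrivSqZeroExt.inl a + TrivSqZeroExt.inr s : DualNumber (Tr k n)).snd = s := by simp

theorem α_apply (n : ℕ) (a : Tr k (n + 1)) : (α k n) a = αAlg k n a := rfl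
theorem ε_apply (n : ℕ) (a : Tr k (n + 1)) : (ε k n) a = εAlg k n a := rfl

theorem β_apply (n : ℕ) (x : DualNumber (Tr k n)) : (β k n) x = x.fst := rfl

theorem fst_ξ_apply (n : ℕ) (x : DualNumber (Tr k (n + 1))) :
    ((ξ k n) x : DualNumber (Tr k n)).fst = αAlg k n x.fst := rfl

theorem snd_ξ_apply (n : ℕ) (x : DualNumber (Tr k (n + 1))) :
    ((ξ k n) x : DualNumber (Tr k n)).snd = αAlg k n x.snd := rfl

theorem fst_comp_εAlg (n : ℕ) (a : Tr k (n + 1)) : (εAlg k n a).fst = αAlg k n a := by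
  have h : (TrivSqZeroExt.fstHom k (Tr k n) (Tr k n)).comp (εAlg k n) = αAlg k n :=
    AdjoinRoot.algHom_ext (by
      change (εAlg k n (t k (n + 1))).fst = αAlg k n (t k (n + 1))
      simp)
  exact AlgHom.congr_fun h a

theorem ε_β (n : ℕ) : ε k n ≫ β k n = α k n :=
  ArtFun.Art.hom_ext (AlgHom.ext fun a => fst_comp_εAlg k n a)

theorem ε_ξ (n : ℕ) : ε k (n + 1) ≫ ξ k n = α k (n + 1) ≫ ε k n :=
  ArtFun.Art.hom_ext (AdjoinRoot.algHom_ext (by
    change dualMap k (αAlg k n) (εAlg k (n + 1) (t k (n + 1 + 1))) =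
      εAlg k n (αAlg k (n + 1) (t k (n + 1 + 1)))
    rw [εAlg_t, αAlg_t, εAlg_t]
    exact TrivSqZeroExt.ext
      (show αAlg k n ((TrivSqZeroExt.inl (t k (n + 1)) + DualNumber.eps :
        DualNumber (Tr k (n + 1))).fst) = _ by simp)
      (show αAlg k n ((TrivSqZeroExt.inl (t k (n + 1)) + DualNumber.eps :
        DualNumber (Tr k (n + 1))).snd) = _ by simp)))

/-- The ideal `(y t^(n+1))` of `B_(n+1)`: the kernel of `B_(n+1) → A_(n+1) × B_n`. -/
def K (n : ℕ) : Ideal (B k (n + 1)) :=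
  RingHom.ker (β k (n + 1)).toAlgHom ⊓ RingHom.ker (ξ k n).toAlgHom

theorem mem_K_iff {n : ℕ} {x : DualNumber (Tr k (n + 1))} :
    x ∈ K k n ↔ x.fst = 0 ∧ αAlg k n x.snd = 0 := by
  constructor
  · rintro ⟨h1, h2⟩
    exact ⟨h1, congrArg TrivSqZeroExt.snd h2⟩
  · rintro ⟨h1, h2⟩
    refine ⟨h1, ?_⟩
    refine TrivSqZeroExt.ext ?_ h2
    change αAlg k n x.fst = 0
    rw [h1, map_zero]

theorem K_le (n : ℕ) : K k n ≤ IsLocalRing.maximalIdeal (B k (n + 1)) := fun x hx => by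
  rw [ArtFun.Art.mem_maximalIdeal_iff]
  change resA k (n + 1) (TrivSqZeroExt.fst (x : DualNumber (Tr k (n + 1)))) = 0
  rw [(mem_K_iff k).1 hx |>.1, map_zero]

theorem maximalIdeal_mul_K (n : ℕ) :
    IsLocalRing.maximalIdeal (B k (n + 1)) * K k n = ⊥ := by
  refine le_bot_iff.1 (Ideal.mul_le.2 fun a ha x hx => ?_)
  obtain ⟨hx1, hx2⟩ := (mem_K_iff k).1 hx
  obtain ⟨c, hc⟩ := αAlg_eq_zero k hx2
  rw [ArtFun.Art.mem_maximalIdeal_iff] at ha
  exact Ideal.mem_bot.2 (dual_mul_eq_zero k ha hx1 hc)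

/-- The middle object `C = B_(n+1)/(y t^(n+1))`. -/
def C (n : ℕ) : ArtFun.Art k k := ArtFun.Art.quot (B k (n + 1)) (K k n) (K_le k n)

/-- The projection `B_(n+1) → C`. -/
def ψ (n : ℕ) : B k (n + 1) ⟶ C k n := ArtFun.Art.quotMk (B k (n + 1)) (K k n) (K_le k n)

/-- `C → A_(n+1)`. -/
def π₁ (n : ℕ) : C k n ⟶ A k (n + 1) :=
  ArtFun.Art.quotFactor (K_le k n) (β k (n + 1)) inf_le_left

/-- `C → B_n`. -/
def π₂ (n : ℕ) : C k n ⟶ B k n :=
  ArtFun.Art.quotFactor (K_le k n) (ξ k n) inf_le_right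

theorem ψ_π₁ (n : ℕ) : ψ k n ≫ π₁ k n = β k (n + 1) := ArtFun.Art.quotMk_quotFactor _ _ _
theorem ψ_π₂ (n : ℕ) : ψ k n ≫ π₂ k n = ξ k n := ArtFun.Art.quotMk_quotFactor _ _ _

theorem ψ_surjective (n : ℕ) : Function.Surjective (ψ k n) :=
  ArtFun.Art.quotMk_surjective _ _ _

theorem ker_ψ (n : ℕ) : RingHom.ker (ψ k n).toAlgHom = K k n :=
  Ideal.ext fun x => by
    rw [RingHom.mem_ker]
    exact Ideal.Quotient.eq_zero_iff_mem

theorem isSemismallExt_ψ (n : ℕ) : ArtFun.Art.IsSemismallExt (ψ k n) :=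
  ⟨ψ_surjective k n, by rw [ker_ψ]; exact maximalIdeal_mul_K k n⟩

theorem isSemismallExt_α (n : ℕ) : ArtFun.Art.IsSemismallExt (α k n) := by
  refine ⟨αAlg_surjective k n, le_bot_iff.1 (Ideal.mul_le.2 fun a ha x hx => ?_)⟩
  obtain ⟨c, hc⟩ := αAlg_eq_zero k (a := (x : Tr k (n + 1))) hx
  rw [ArtFun.Art.mem_maximalIdeal_iff] at ha
  exact Ideal.mem_bot.2 (mul_eq_zero_top k ha hc)

theorem isFibreProd (n : ℕ) : ArtFun.Art.IsFibreProd (π₁ k n) (π₂ k n) (α k n) (β k n) where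
  w := by
    refine ArtFun.Art.hom_ext (AlgHom.ext fun x => ?_)
    obtain ⟨y, rfl⟩ := Ideal.Quotient.mk_surjective x
    exact (fst_ξ_apply k n y).symm
  inj b₁ b₂ h1 h2 := by
    obtain ⟨y₁, rfl⟩ := ψ_surjective k n b₁
    obtain ⟨y₂, rfl⟩ := ψ_surjective k n b₂
    refine Ideal.Quotient.eq.2 ⟨?_, ?_⟩
    · refine RingHom.mem_ker.2 ((map_sub _ _ _).trans (sub_eq_zero.2 ?_))
      exact h1
    · refine RingHom.mem_ker.2 ((map_sub _ _ _).trans (sub_eq_zero.2 ?_))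
      exact h2
  surj a b hab := by
    obtain ⟨s, hs⟩ := αAlg_surjective k n (TrivSqZeroExt.snd (b : DualNumber (Tr k n)))
    refine ⟨ψ k n ((TrivSqZeroExt.inl (a : Tr k (n + 1)) + TrivSqZeroExt.inr s :
      DualNumber (Tr k (n + 1)))), fst_inl_add_inr' k (a : Tr k (n + 1)) s, ?_⟩
    refine TrivSqZeroExt.ext ?_ ?_
    · exact (congrArg (αAlg k n) (fst_inl_add_inr' k (a : Tr k (n + 1)) s)).trans hab
    · exact (congrArg (αAlg k n) (snd_inl_add_inr' k (a : Tr k (n + 1)) s)).trans hs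

theorem fst_inl_t_add_eps_pow (n j : ℕ) :
    ((TrivSqZeroExt.inl (t k n) + DualNumber.eps : DualNumber (Tr k n)) ^ j).fst = t k n ^ j := by
  simp

theorem snd_εAlg_t_pow (n : ℕ) :
    (εAlg k n (t k (n + 1) ^ (n + 1))).snd = ((n + 1 : ℕ) : Tr k n) * t k n ^ n := by
  rw [map_pow, εAlg_t, TrivSqZeroExt.snd_pow]
  simp

theorem εAlg_mem_K {n : ℕ} {a : Tr k (n + 1 + 1)} (h : αAlg k (n + 1) a = 0) :
    εAlg k (n + 1) a ∈ K k n := by
  refine (mem_K_iff k).2 ⟨(fst_comp_εAlg k (n + 1) a).trans h, ?_⟩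
  obtain ⟨c, rfl⟩ := αAlg_eq_zero k h
  rw [map_smul, TrivSqZeroExt.snd_smul, snd_εAlg_t_pow, map_smul, map_mul, map_pow, αAlg_t, t_pow,
    mul_zero, smul_zero]

theorem εAlg_injOn [CharZero k] {n : ℕ} {a : Tr k (n + 1)} (h : αAlg k n a = 0)
    (h' : εAlg k n a = 0) : a = 0 := by
  obtain ⟨c, rfl⟩ := αAlg_eq_zero k h
  have h2 := congrArg TrivSqZeroExt.snd h'
  rw [map_smul, TrivSqZeroExt.snd_smul, snd_εAlg_t_pow, TrivSqZeroExt.snd_zero,
    ← map_natCast (algebraMap k (Tr k n)), ← Algebra.smul_def, smul_smul] at h2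
  rcases smul_eq_zero.1 h2 with h3 | h3
  · rw [mul_eq_zero] at h3
    rcases h3 with h3 | h3
    · rw [h3, zero_smul]
    · exact absurd h3 (Nat.cast_ne_zero.2 (Nat.succ_ne_zero n))
  · exact absurd h3 (t_pow_top_ne_zero k n)

theorem inl_t_add_eps_pow_mem (n : ℕ) :
    (TrivSqZeroExt.inl (t k (n + 1)) + DualNumber.eps : DualNumber (Tr k (n + 1))) ^ (n + 1 + 1) ∈ K k n := by
  have h := εAlg_mem_K k (n := n) (a := t k (n + 1 + 1) ^ (n + 1 + 1)) (by rw [map_pow, αAlg_t, t_pow])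
  rw [map_pow, εAlg_t] at h
  exact h

theorem resA_inl_t_add_eps (n : ℕ) :
    resA k n ((TrivSqZeroExt.inl (t k n) + DualNumber.eps : DualNumber (Tr k n)).fst) = 0 := by simp

/-- The underlying map `k[t]/(t^(n+2)) → B_(n+1)/(y t^(n+1))`, `t ↦ t + y`. -/
def gAlg (n : ℕ) : Tr k (n + 1) →ₐ[k] (↥(B k (n + 1)) ⧸ K k n) :=
  AdjoinRoot.liftAlgHom _ (Algebra.ofId k _)
    (Ideal.Quotient.mk (K k n)
      ((TrivSqZeroExt.inl (t k (n + 1)) + DualNumber.eps : DualNumber (Tr k (n + 1)))))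
    (by
      rw [eval₂_X_pow, ← map_pow]
      exact Ideal.Quotient.eq_zero_iff_mem.2 (inl_t_add_eps_pow_mem k n))

theorem gAlg_t (n : ℕ) : gAlg k n (t k (n + 1)) =
    Ideal.Quotient.mk (K k n)
      ((TrivSqZeroExt.inl (t k (n + 1)) + DualNumber.eps : DualNumber (Tr k (n + 1)))) :=
  AdjoinRoot.liftAlgHom_root _ _ _ _

/-- The map `A_(n+1) → C` induced by `t ↦ t + y`. -/
def g (n : ℕ) : A k (n + 1) ⟶ C k n :=
  ArtFun.Art.homMk (gAlg k n : ↥(A k (n + 1)) →ₐ[k] ↥(C k n))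
    (AdjoinRoot.algHom_ext ((congrArg (C k n).res (gAlg_t k n)).trans
      ((resA_inl_t_add_eps k (n + 1)).trans (resA_t k (n + 1)).symm)))

theorem α_g (n : ℕ) : α k (n + 1) ≫ g k n = ε k (n + 1) ≫ ψ k n :=
  ArtFun.Art.hom_ext (AdjoinRoot.algHom_ext ((congrArg (gAlg k n) (αAlg_t k (n + 1))).trans
    ((gAlg_t k n).trans (congrArg (Ideal.Quotient.mk (K k n)) (εAlg_t k (n + 1)).symm))))

theorem g_π₁ (n : ℕ) : g k n ≫ π₁ k n = 𝟙 (A k (n + 1)) := by
  refine ArtFun.Art.hom_ext (AlgHom.ext fun a => ?_)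
  obtain ⟨b, rfl⟩ := αAlg_surjective k (n + 1) a
  have h := DFunLike.congr_fun (congrArg ArtFun.Art.Hom.toAlgHom
    ((congrArg (fun f => f ≫ π₁ k n) (α_g k n)).trans (by rw [Category.assoc, ψ_π₁, ε_β]))) b
  exact h

theorem g_π₂ (n : ℕ) : g k n ≫ π₂ k n = ε k n := by
  refine ArtFun.Art.hom_ext (AlgHom.ext fun a => ?_)
  obtain ⟨b, rfl⟩ := αAlg_surjective k (n + 1) a
  have h := DFunLike.congr_fun (congrArg ArtFun.Art.Hom.toAlgHom
    ((congrArg (fun f => f ≫ π₂ k n) (α_g k n)).trans (by rw [Category.assoc, ψ_π₂, ε_ξ]))) b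
  exact h

theorem criterion [CharZero k] (F : ArtFun.Art k k ⥤ Type v)
    (hRS : ∀ ⦃P A A' A'' : ArtFun.Art k k⦄ (p' : P ⟶ A') (p'' : P ⟶ A'') (f' : A' ⟶ A) (f'' : A'' ⟶ A)
      (h : ArtFun.Art.IsFibreProd p' p'' f' f''), Function.Surjective f'' → Function.Bijective (ArtFun.cmp F h))
    (V : Type u) [AddCommGroup V] [Module k V] (O : ArtFun.ObsTheory F V)
    (hnat : ∀ ⦃A' A C' C : ArtFun.Art k k⦄ (φ : A' ⟶ A) (hφ : ArtFun.Art.IsSemismallExt φ)
      (ψ : C' ⟶ C) (hψ : ArtFun.Art.IsSemismallExt ψ) (g' : A' ⟶ C') (g : A ⟶ C), φ ≫ g = g' ≫ ψ →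
      ∀ (ℓ : ↥(RingHom.ker φ.toAlgHom) →ₗ[k] ↥(RingHom.ker ψ.toAlgHom)),
        (∀ j : ↥(RingHom.ker φ.toAlgHom), ((ℓ j : ↥(RingHom.ker ψ.toAlgHom)) : C') = g' (j : A')) →
        ∀ u : F.obj A, O.obs ψ hψ (F.map g u) = LinearMap.lTensor V ℓ (O.obs φ hφ u))
    (n : ℕ) (X : F.obj (T1Lift.A k (n + 1))) :
    (∃ X' : F.obj (T1Lift.A k (n + 2)), F.map (T1Lift.α k (n + 1)) X' = X) ↔
      ∃ Y : F.obj (T1Lift.B k (n + 1)), F.map (T1Lift.β k (n + 1)) Y = X ∧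
        F.map (T1Lift.ξ k n) Y = F.map (T1Lift.ε k n) X := by
  constructor
  · rintro ⟨X', rfl⟩
    refine ⟨F.map (ε k (n + 1)) X', ?_, ?_⟩
    · rw [← FunctorToTypes.map_comp_apply, ε_β]
    · rw [← FunctorToTypes.map_comp_apply, ← FunctorToTypes.map_comp_apply, ε_ξ]
  · rintro ⟨Y, hY1, hY2⟩
    have hs : Function.Surjective (β k n) := fun a => ⟨TrivSqZeroExt.inl a, rfl⟩
    have heq : F.map (g k n) X = F.map (ψ k n) Y := by
      refine (hRS _ _ _ _ (isFibreProd k n) hs).1 (ArtFun.FibProd.ext ?_ ?_)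
      · show F.map (π₁ k n) (F.map (g k n) X) = F.map (π₁ k n) (F.map (ψ k n) Y)
        rw [← FunctorToTypes.map_comp_apply, ← FunctorToTypes.map_comp_apply, g_π₁, ψ_π₁,
          FunctorToTypes.map_id_apply, hY1]
      · show F.map (π₂ k n) (F.map (g k n) X) = F.map (π₂ k n) (F.map (ψ k n) Y)
        rw [← FunctorToTypes.map_comp_apply, ← FunctorToTypes.map_comp_apply, g_π₂, ψ_π₂, hY2]
    have hzero : O.obs (ψ k n) (isSemismallExt_ψ k n) (F.map (g k n) X) = 0 :=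
      (O.obs_eq_zero_iff _ _ _).2 ⟨Y, heq.symm⟩
    let ℓ : ↥(RingHom.ker (α k (n + 1)).toAlgHom) →ₗ[k] ↥(RingHom.ker (ψ k n).toAlgHom) :=
      { toFun := fun j => ⟨εAlg k (n + 1) (j.1 : Tr k (n + 1 + 1)),
          (ker_ψ k n).symm ▸ εAlg_mem_K k (RingHom.mem_ker.1 j.2)⟩
        map_add' := fun x y => Subtype.ext (map_add (εAlg k (n + 1)) _ _)
        map_smul' := fun c x => Subtype.ext (map_smul (εAlg k (n + 1)) c _) }
    have hℓ : Function.Injective ℓ := by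
      intro x y hxy
      refine Subtype.ext (sub_eq_zero.1 (εAlg_injOn k ?_ ?_))
      · exact (map_sub _ _ _).trans (sub_eq_zero.2 ((RingHom.mem_ker.1 x.2).trans (RingHom.mem_ker.1 y.2).symm))
      · exact (map_sub _ _ _).trans (sub_eq_zero.2 (congrArg Subtype.val hxy))
    have h := hnat (α k (n + 1)) (isSemismallExt_α k (n + 1)) (ψ k n) (isSemismallExt_ψ k n)
      (ε k (n + 1)) (g k n) (α_g k n) ℓ (fun j => rfl) X
    rw [hzero] at h
    exact (O.obs_eq_zero_iff _ (isSemismallExt_α k (n + 1)) X).1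
      (Module.Flat.lTensor_preserves_injective_linearMap (M := V) ℓ hℓ
        (h.symm.trans (map_zero _).symm))

end Groth.Agent.T1Lift29
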